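import Mathlib
import Cfsg.Prelude.Def_SporCoxeter

/-! Sub-presentations of the O'Nan presentation: the part on a..f (`L₃(7):2`) and its
parabolic `⟨a,b,c⟩ × ⟨e,f⟩`. -/

set_option autoImplicit false

namespace Cfsg.Agent.Helper17.ONSub

namespace ONS1

inductive Gen
  | a
  | b
  | c
  | d
  | e
  | f
  deriving DecidableEq

abbrev a : FreeGroup Gen := FreeGroup.of Gen.a
abbrev b : FreeGroup Gen := FreeGroup.of Gen.b
abbrev c : FreeGroup Gen := FreeGroup.of Gen.c
abbrev d : FreeGroup Gen := FreeGroup.of Gen.d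
abbrev e : FreeGroup Gen := FreeGroup.of Gen.e
abbrev f : FreeGroup Gen := FreeGroup.of Gen.f

def edges : List (Gen × ℕ × Gen) :=
  [(.a, 3, .b), (.b, 3, .c), (.c, 8, .d), (.d, 3, .e), (.e, 3, .f)]

def extra : List (FreeGroup Gen) := [
  (a * f) * (((c * d) ^ 4)⁻¹) ]

end ONS1

namespace ONS2

inductive Gen
  | a
  | b
  | c
  | e
  | f
  deriving DecidableEq

abbrev a : FreeGroup Gen := FreeGroup.of Gen.a
abbrev b : FreeGroup Gen := FreeGroup.of Gen.b
abbrev c : FreeGroup Gen := FreeGroup.of Gen.c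
abbrev e : FreeGroup Gen := FreeGroup.of Gen.e
abbrev f : FreeGroup Gen := FreeGroup.of Gen.f

def edges : List (Gen × ℕ × Gen) :=
  [(.a, 3, .b), (.b, 3, .c), (.e, 3, .f)]

def extra : List (FreeGroup Gen) := []

end ONS2

end Cfsg.Agent.Helper17.ONSub
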